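import Groth.Agent.An.H156.LCatCalc
import Groth.Agent.An.H885.EpsGerm
import Groth.Agent.An.H890.FibreRed

/-!
# Germs of direct images along finite morphisms extend to étale neighbourhoods

* `ExtGerms_epsPull`: for an étale sheaf `F` the germs of `ε^* F` extend;
* `ExtGerms_pushCl_epsPull`, `ExtGerms_pushCl_const`: the same for `ρ(ℂ)_* ε^* F` and
  `ρ(ℂ)_* M`, `ρ` finite.
-/

set_option autoImplicit false
open CategoryTheory CategoryTheory.Limits AlgebraicGeometry TopologicalSpace Topology Opposite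

noncomputable section

namespace Groth.Agent.An.H156.ExtPush

open Groth.Agent.An.H866.T2Defs Groth.Agent.An.H156.LCatCalc Groth.Agent.An.H885.EpsGerm
open Groth.Agent.An.H886.EtSpace (res res_comp res_id GEq)
open Groth.Agent.An.H890.ULiftSite Groth.Agent.An.H890.Theta

section one

variable (S : Scheme.{0}) [S.Over An.SC] [LocallyOfFiniteType (S ↘ An.SC)] [Fact An.EtaleLH]

/-- Two maps to étale objects factor through a third one. -/
theorem exists_common_etale {C : An.Cl (An.Pts S)} {U U₁ : S.Etale} (k : C ⟶ (An.eps S).obj U)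
    (k₁ : C ⟶ (An.eps S).obj U₁) : ∃ (V : S.Etale) (g : V ⟶ U) (g₁ : V ⟶ U₁)
      (m : C ⟶ (An.eps S).obj V), m ≫ (An.eps S).map g = k ∧ m ≫ (An.eps S).map g₁ = k₁ := by
  have : IsCofiltered (StructuredArrow C (An.eps S)) :=
    RepresentablyFlat.cofiltered (F := An.eps S) C
  obtain ⟨W, a, b, -⟩ := IsCofilteredOrEmpty.cone_objs (StructuredArrow.mk k) (StructuredArrow.mk k₁)
  exact ⟨W.right, a.right, b.right, W.hom, StructuredArrow.w a, StructuredArrow.w b⟩

variable [An.EpsCont S]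

/-- The germs of `ε^* F` extend to étale neighbourhoods. -/
theorem ExtGerms_epsPull (F : EtCoh.Ab S) : ExtGerms S ((An.epsPull S).obj F) := by
  intro U C k c α
  obtain ⟨U₁, r, C₁, k₁, c₁, x, hx, e⟩ := exists_eta S F α c
  obtain ⟨V, g, g₁, m, h1, h2⟩ := exists_common_etale S (k₁ ≫ k) c₁
  refine ⟨V, g, m.toFun x, eta S F V (EtpbcA.Germ.res F g₁ r), ?_, C₁, k₁, m, x, hx, rfl, ?_⟩
  · have := congrArg (fun t => t.toFun x) h1
    change ((An.eps S).map g).toFun (m.toFun x) = k.toFun (k₁.toFun x) at this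
    rw [this, hx]
  · rw [← res_eta]
    change res _ k₁ α = res _ m (res _ ((An.eps S).map g₁) (eta S F U₁ r))
    rw [← res_comp, h2]
    exact e

end one

variable {S' S : Scheme.{0}} [S'.Over An.SC] [S.Over An.SC] (rho : S' ⟶ S) [rho.IsOver An.SC]
  [LocallyOfFiniteType (S' ↘ An.SC)] [LocallyOfFiniteType (S ↘ An.SC)] [Fact An.EtaleLH]
  [An.EpsCont S'] [An.EpsCont S] [IsFinite rho]

/-- The germs of `ρ(ℂ)_* ε^* F` extend, for `ρ` finite. -/
theorem ExtGerms_pushCl_epsPull (F : EtCoh.Ab S') :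
    ExtGerms S ((pushCl (An.Pts.mapC rho)).obj ((An.epsPull S').obj F)) :=
  ExtGerms_of_iso (asIso ((theta rho).app F)) (ExtGerms_epsPull S _)

/-- The germs of `ρ(ℂ)_* M` extend, for `ρ` finite. -/
theorem ExtGerms_pushCl_const (M : Type) [AddCommGroup M] :
    ExtGerms S ((pushCl (An.Pts.mapC rho)).obj (An.Cl.const (An.Pts S') M)) :=
  ExtGerms_of_iso ((pushCl (An.Pts.mapC rho)).mapIso (An.epsPullConst S' M))
    (ExtGerms_pushCl_epsPull rho (EtCoh.const S' M))

end Groth.Agent.An.H156.ExtPush
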