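import Groth.Agent.An.H866.T2Defs
import Groth.Agent.An.H885.ClPoint
import Groth.Agent.An.H882.FinPush
import Groth.Agent.Sga4h.LerayAcyc
import Mathlib.Algebra.Homology.ShortComplex.Ab
import Mathlib.CategoryTheory.Abelian.Exact

/-!
# Stability properties of `LCat`

`LCat` (finite locally constant along a subset, near a point) for presheaves on the opens of a
space, and for sheaves on the classical site: cokernels (`LCat_X₃`), biproducts, isomorphisms.
-/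

set_option autoImplicit false
universe w u
open CategoryTheory CategoryTheory.Limits AlgebraicGeometry TopologicalSpace Topology Opposite

noncomputable section

namespace Groth.Agent.An.H156.LCatCalc

open Groth.Agent.An.H889.OCoh Groth.Agent.An.H866.T2Defs
open Groth.Agent.An.H886.EtSpace (res res_comp res_id GEq exists_eq)
open Groth.Agent.An.H882.FinPush (exists_lift_of_epi app_res)

section abstract'

variable {T : Type u} [TopologicalSpace T]

/-- Morphisms of presheaves on the opens of a space. -/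
structure PHom (P Q : PAb.{w} T) where
  f : ∀ V, P.F V →+ Q.F V
  nat : ∀ {U V : Opens T} (k : V ≤ U) (a : P.F U), f V (P.res k a) = Q.res k (f U a)

variable {P Q R : PAb.{w} T}

/-- A finite intersection of neighbourhoods. -/
theorem exists_inter {ι : Type*} [Finite ι] (z : T) (V : Opens T) (hz : z ∈ V) (W : ι → Opens T)
    (hW : ∀ i, z ∈ W i) : ∃ V' : Opens T, z ∈ V' ∧ V' ≤ V ∧ ∀ i, V' ≤ W i := by
  have h : ∀ᶠ x in 𝓝 z, x ∈ V ∧ ∀ i, x ∈ W i :=
    Filter.Eventually.and (V.2.mem_nhds hz)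
      (Filter.eventually_all.2 fun i => (W i).2.mem_nhds (hW i))
  obtain ⟨U, h1, h2, h3⟩ := eventually_nhds_iff.1 h
  exact ⟨⟨U, h2⟩, h3, fun x hx => (h1 x hx).1, fun i x hx => (h1 x hx).2 i⟩

/-- `LCat` for a cokernel. -/
theorem LCat_coker (f : PHom P Q) (g : PHom Q R) (gf : ∀ V a, g.f V (f.f V a) = 0)
    (ex : ∀ (V : Opens T) (b : Q.F V), g.f V b = 0 → ∀ t ∈ V, ∃ (V' : Opens T) (k : V' ≤ V),
      t ∈ V' ∧ ∃ a : P.F V', f.f V' a = Q.res k b)
    (surj : ∀ (V : Opens T) (c : R.F V), ∀ t ∈ V, ∃ (V' : Opens T) (k : V' ≤ V),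
      t ∈ V' ∧ ∃ b : Q.F V', g.f V' b = R.res k c)
    {Z : Set T} {z : T} (hz : z ∈ Z) (hP : P.LCat Z z) (hQ : Q.LCat Z z) : R.LCat Z z := by
  obtain ⟨V₀, hz₀, S₀, hS₀, hG₀⟩ := hP
  obtain ⟨V, hzV, hV, S₂, hS₂, hG₂⟩ := hQ.exists_le hz₀
  obtain ⟨S₁, hS₁, hG₁⟩ := PAb.exists_gen_le hzV hV hG₀
  -- the images of the elements of `S₁` lie in `S₂`, near `z`
  have h1 : ∀ s₁ : S₁, ∃ s₂ ∈ S₂, ∃ (V'' : Opens T) (k : V'' ≤ V), z ∈ V'' ∧
      Q.res k s₂ = Q.res k (f.f V s₁.1) := by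
    intro s₁
    obtain ⟨s₂, hs₂, V'', k, k', h, e⟩ := (hG₂ z hzV hz).2 V hzV (f.f V s₁.1)
    exact ⟨s₂, hs₂, V'', k, h, e⟩
  choose σ hσ V'' k hV'' e using h1
  obtain ⟨W, hzW, hWV, hW⟩ := exists_inter z V hzV V'' hV''
  have key : ∀ s₁ : S₁, Q.res hWV (σ s₁) = f.f W (P.res hWV s₁.1) := by
    intro s₁
    have := congrArg (Q.res (hW s₁)) (e s₁)
    rw [Q.res_res, Q.res_res] at this
    rw [this, f.nat]
  refine ⟨W, hzW, S₂.map ((g.f W).comp (Q.res hWV)), ?_, ?_⟩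
  · exact ((Set.toFinite (S₂ : Set (Q.F V))).image ((g.f W).comp (Q.res hWV))).to_subtype
  · intro t ht htZ
    refine ⟨?_, ?_⟩
    · rintro _ ⟨s₂, hs₂, rfl⟩ V' k' ht' h0
      change R.res k' (g.f W (Q.res hWV s₂)) = 0 at h0
      change g.f W (Q.res hWV s₂) = 0
      rw [← g.nat, Q.res_res] at h0
      obtain ⟨V₂, k₂, ht₂, a, ha⟩ := ex V' _ h0 t ht'
      obtain ⟨s₁, hs₁, V₃, k₃, k₃', ht₃, e₃⟩ := (hG₁ t (hWV ht) htZ).2 V₂ ht₂ a
      have hk : V₃ ≤ W := k₃'.trans (k₂.trans k')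
      have e4 : Q.res k₃ (σ ⟨s₁, hs₁⟩) = Q.res k₃ s₂ := by
        have h5 := congrArg (Q.res hk) (key ⟨s₁, hs₁⟩)
        rw [Q.res_res, ← f.nat, P.res_res] at h5
        have h6 := congrArg (Q.res k₃') ha
        rw [← f.nat, Q.res_res, Q.res_res] at h6
        exact h5.trans ((congrArg (f.f V₃) e₃).trans h6)
      have e5 : s₂ = σ ⟨s₁, hs₁⟩ := by
        refine sub_eq_zero.1 ((hG₂ t (hWV ht) htZ).1 _ (S₂.sub_mem hs₂ (hσ _)) V₃ k₃ ht₃ ?_)
        rw [map_sub, e4, sub_self]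
      rw [e5, key, gf]
    · intro V' ht' c
      obtain ⟨V₁, k₁, ht₁, b, hb⟩ := surj V' c t ht'
      obtain ⟨s₂, hs₂, V₂, k₂, k₂', ht₂, e₂⟩ := (hG₂ t (hWV ht) htZ).2 V₁ ht₁ b
      refine ⟨_, ⟨s₂, hs₂, rfl⟩, V₂ ⊓ W, inf_le_right, inf_le_left.trans (k₂'.trans k₁), ⟨ht₂, ht⟩, ?_⟩
      change R.res inf_le_right (g.f W (Q.res hWV s₂)) = _
      rw [← g.nat, Q.res_res]
      have h3 := congrArg (Q.res (inf_le_left : V₂ ⊓ W ≤ V₂)) e₂
      rw [Q.res_res, Q.res_res] at h3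
      have h4 := congrArg (R.res ((inf_le_left : V₂ ⊓ W ≤ V₂).trans k₂')) hb
      rw [R.res_res, ← g.nat] at h4
      exact (congrArg (g.f _) h3).trans h4

/-- `LCat` is invariant under isomorphism. -/
theorem LCat_of_bijective (f : PHom P Q) (hf : ∀ V, Function.Bijective (f.f V)) {Z : Set T} {z : T}
    (hP : P.LCat Z z) : Q.LCat Z z := by
  obtain ⟨V, hz, S, hS, hG⟩ := hP
  refine ⟨V, hz, S.map (f.f V), ?_, fun t ht htZ => ⟨?_, ?_⟩⟩
  · exact ((Set.toFinite (S : Set (P.F V))).image (f.f V)).to_subtype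
  · rintro _ ⟨s, hs, rfl⟩ V' k ht' h0
    rw [← f.nat] at h0
    rw [(hG t ht htZ).1 s hs V' k ht' ((hf V').1 (by rw [h0, map_zero])), map_zero]
  · intro V' ht' g
    obtain ⟨a, rfl⟩ := (hf V').2 g
    obtain ⟨s, hs, V'', k, k', ht'', e⟩ := (hG t ht htZ).2 V' ht' a
    refine ⟨_, ⟨s, hs, rfl⟩, V'', k, k', ht'', ?_⟩
    rw [← f.nat, ← f.nat, e]

/-- `LCat` for a direct sum. -/
theorem LCat_sum (i : PHom P R) (p : PHom R P) (j : PHom Q R) (q : PHom R Q)
    (pi : ∀ V a, p.f V (i.f V a) = a) (qj : ∀ V a, q.f V (j.f V a) = a)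
    (qi : ∀ V a, q.f V (i.f V a) = 0) (pj : ∀ V a, p.f V (j.f V a) = 0)
    (tot : ∀ V a, i.f V (p.f V a) + j.f V (q.f V a) = a) {Z : Set T} {z : T}
    (hP : P.LCat Z z) (hQ : Q.LCat Z z) : R.LCat Z z := by
  obtain ⟨V₀, hz₀, S₀, hS₀, hG₀⟩ := hP
  obtain ⟨V, hzV, hV, S₂, hS₂, hG₂⟩ := hQ.exists_le hz₀
  obtain ⟨S₁, hS₁, hG₁⟩ := PAb.exists_gen_le hzV hV hG₀
  refine ⟨V, hzV, (S₁.prod S₂).map ((i.f V).coprod (j.f V)), ?_, fun t ht htZ => ⟨?_, ?_⟩⟩
  · have : Finite (S₁.prod S₂) := Finite.of_equiv _ (S₁.prodEquiv S₂).symm.toEquiv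
    exact ((Set.toFinite (S₁.prod S₂ : Set (P.F V × Q.F V))).image
      ((i.f V).coprod (j.f V))).to_subtype
  · rintro _ ⟨⟨a, b⟩, ⟨ha, hb⟩, rfl⟩ V' k ht' h0
    change R.res k (i.f V a + j.f V b) = 0 at h0
    change i.f V a + j.f V b = 0
    have h1 := congrArg (p.f V') h0
    rw [p.nat, map_add, pi, pj, add_zero, map_zero] at h1
    have h2 := congrArg (q.f V') h0
    rw [q.nat, map_add, qi, qj, zero_add, map_zero] at h2
    rw [(hG₁ t ht htZ).1 a ha V' k ht' h1, (hG₂ t ht htZ).1 b hb V' k ht' h2, map_zero, map_zero,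
      add_zero]
  · intro V' ht' g
    obtain ⟨a, ha, V₁, k₁, k₁', ht₁, e₁⟩ := (hG₁ t ht htZ).2 V' ht' (p.f V' g)
    obtain ⟨b, hb, V₂, k₂, k₂', ht₂, e₂⟩ := (hG₂ t ht htZ).2 V' ht' (q.f V' g)
    refine ⟨_, ⟨(a, b), ⟨ha, hb⟩, rfl⟩, V₁ ⊓ V₂, inf_le_left.trans k₁, inf_le_left.trans k₁',
      ⟨ht₁, ht₂⟩, ?_⟩
    change R.res _ (i.f V a + j.f V b) = _
    have h1 := congrArg (P.res (inf_le_left : V₁ ⊓ V₂ ≤ V₁)) e₁
    rw [P.res_res, P.res_res] at h1
    have h2 := congrArg (Q.res (inf_le_right : V₁ ⊓ V₂ ≤ V₂)) e₂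
    rw [Q.res_res, Q.res_res] at h2
    rw [map_add, ← i.nat, ← j.nat, h1, h2, i.nat, j.nat, ← map_add, tot]

end abstract'

section classical

variable {T : Type} [TopologicalSpace T]

/-- The morphism of presheaves on opens attached to a morphism of sheaves. -/
def clMap {F G : An.Cl.Ab T} (φ : F ⟶ G) : PHom (clPab F) (clPab G) where
  f V := (φ.hom.app (op ((An.opensToCl T).obj V))).hom
  nat k a := (Groth.Agent.An.H885.ClPoint.res_naturality φ ((An.opensToCl T).map (homOfLE k)) a).symm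

theorem clMap_comp {F G H : An.Cl.Ab T} (φ : F ⟶ G) (ψ : G ⟶ H) (V : Opens T)
    (a : (clPab F).F V) : (clMap (φ ≫ ψ)).f V a = (clMap ψ).f V ((clMap φ).f V a) := rfl

theorem clMap_id {F : An.Cl.Ab T} (V : Opens T) (a : (clPab F).F V) : (clMap (𝟙 F)).f V a = a := rfl

/-- Sections killed by `S.g` come from `S.X₁`. -/
theorem exists_of_g_eq_zero {S : ShortComplex (An.Cl.Ab T)} (hS : S.ShortExact) {B : An.Cl T}
    (t : An.Cl.sect S.X₂ B) (ht : (S.g.hom.app (op B)).hom t = 0) :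
    ∃ u : An.Cl.sect S.X₁ B, (S.f.hom.app (op B)).hom u = t := by
  let F : An.Cl.Ab T ⥤ AddCommGrpCat.{1} :=
    sheafToPresheaf _ _ ⋙ (CategoryTheory.evaluation _ _).obj (op B)
  have h := hS.exact.map_of_mono_of_preservesKernel F hS.mono_f inferInstance
  exact (ShortComplex.ab_exact_iff _).1 h t ht

/-- A neighbourhood inside a given open subset of an open. -/
theorem exists_opens_section (V : Opens T) (W : Set ((An.opensToCl T).obj V).E) (hW : IsOpen W)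
    (t : V) (ht : t ∈ W) : ∃ (V' : Opens T) (k : V' ≤ V)
      (g : (An.opensToCl T).obj V' ⟶ An.Cl.restrictOpen ((An.opensToCl T).obj V) W hW),
      t.1 ∈ V' ∧ g ≫ An.Cl.restrictOpenι _ W hW = (An.opensToCl T).map (homOfLE k) := by
  let V' : Opens T := ⟨Subtype.val '' W, V.2.isOpenEmbedding_subtypeVal.isOpenMap W hW⟩
  have k : V' ≤ V := by
    rintro _ ⟨x, -, rfl⟩
    exact x.2
  have hmem : ∀ x : V', (⟨x.1, k x.2⟩ : V) ∈ W := by
    rintro ⟨_, x, hx, rfl⟩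
    exact hx
  exact ⟨V', k, ⟨fun x => ⟨⟨x.1, k x.2⟩, hmem x⟩,
    (continuous_subtype_val.subtype_mk _).subtype_mk _, fun _ => rfl⟩, ⟨t, ht, rfl⟩, rfl⟩

/-- **LCat for a quotient**: in a short exact sequence, if `X₁` and `X₂` are locally constant with
finite stalks along `Z` near `z ∈ Z`, so is `X₃`. -/
theorem LCat_X₃ {S : ShortComplex (An.Cl.Ab T)} (hS : S.ShortExact) {Z : Set T} {z : T}
    (hz : z ∈ Z) (h₁ : LCat S.X₁ Z z) (h₂ : LCat S.X₂ Z z) : LCat S.X₃ Z z := by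
  have := hS.epi_g
  refine LCat_coker (clMap S.f) (clMap S.g) ?_ ?_ ?_ hz h₁ h₂
  · intro V a
    rw [← clMap_comp, S.zero]
    rfl
  · intro V b hb t ht
    obtain ⟨u, hu⟩ := exists_of_g_eq_zero hS b hb
    refine ⟨V, le_rfl, ht, u, ?_⟩
    rw [(clPab S.X₂).res_self]
    exact hu
  · intro V c t ht
    obtain ⟨W, hW, htW, x, hx⟩ := exists_lift_of_epi S.g c (⟨t, ht⟩ : V)
    obtain ⟨V', k, g, ht', hg⟩ := exists_opens_section V W hW ⟨t, ht⟩ htW
    refine ⟨V', k, ht', res S.X₂ g x, ?_⟩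
    change (S.g.hom.app (op ((An.opensToCl T).obj V'))).hom (res S.X₂ g x) = _
    rw [app_res, hx, clPab_res, ← res_comp, hg]

/-- `LCat` is invariant under isomorphism. -/
theorem LCat_of_iso {A B : An.Cl.Ab T} (e : A ≅ B) {Z : Set T} {z : T} (h : LCat A Z z) :
    LCat B Z z := by
  refine LCat_of_bijective (clMap e.hom) (fun V => ⟨?_, ?_⟩) h
  · refine Function.LeftInverse.injective (g := (clMap e.inv).f V) fun a => ?_
    rw [← clMap_comp, e.hom_inv_id, clMap_id]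
  · refine Function.RightInverse.surjective (g := (clMap e.inv).f V) fun a => ?_
    rw [← clMap_comp, e.inv_hom_id, clMap_id]

theorem clMap_zero {A B : An.Cl.Ab T} (V : Opens T) (a : (clPab A).F V) :
    (clMap (0 : A ⟶ B)).f V a = 0 := rfl

theorem clMap_add {A B : An.Cl.Ab T} (φ ψ : A ⟶ B) (V : Opens T) (a : (clPab A).F V) :
    (clMap (φ + ψ)).f V a = (clMap φ).f V a + (clMap ψ).f V a := rfl

/-- `LCat` for a biproduct. -/
theorem LCat_biprod {A B : An.Cl.Ab T} {Z : Set T} {z : T} (hA : LCat A Z z) (hB : LCat B Z z) :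
    LCat (A ⊞ B) Z z := by
  refine LCat_sum (clMap biprod.inl) (clMap biprod.fst) (clMap biprod.inr) (clMap biprod.snd)
    ?_ ?_ ?_ ?_ ?_ hA hB
  · intro V a
    rw [← clMap_comp, biprod.inl_fst, clMap_id]
  · intro V a
    rw [← clMap_comp, biprod.inr_snd, clMap_id]
  · intro V a
    rw [← clMap_comp, biprod.inl_snd, clMap_zero]
  · intro V a
    rw [← clMap_comp, biprod.inr_fst, clMap_zero]
  · intro V a
    rw [← clMap_comp, ← clMap_comp, ← clMap_add, biprod.total, clMap_id]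

end classical

section acal

variable {S : Scheme.{0}} [S.Over An.SC]

/-- Combining conditions along irreducible closed subsets. -/
theorem Acal_of_forall {A B C : An.Cl.Ab (An.Pts S)}
    (h : ∀ (Z : Set (An.Pts S)) (z : An.Pts S), z ∈ Z → LCat A Z z → LCat B Z z → LCat C Z z)
    (hA : Acal S A) (hB : Acal S B) : Acal S C := by
  intro Z hZ hirr
  obtain ⟨U, hU, h1⟩ := hA Z hZ hirr
  obtain ⟨U', hU', h2⟩ := hB Z hZ hirr
  refine ⟨U ⊓ U', hirr.2 U U' U.2 U'.2 hU hU', fun z hz hzZ => ?_⟩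
  exact h _ z hzZ (h1 z hz.1 hzZ) (h2 z hz.2 hzZ)

/-- `Acal` for a quotient. -/
theorem Acal_X₃ {K : ShortComplex (An.Cl.Ab (An.Pts S))} (hK : K.ShortExact)
    (h₁ : Acal S K.X₁) (h₂ : Acal S K.X₂) : Acal S K.X₃ :=
  Acal_of_forall (fun _ _ hz => LCat_X₃ hK hz) h₁ h₂

/-- `Acal` for a biproduct. -/
theorem Acal_biprod {A B : An.Cl.Ab (An.Pts S)} (hA : Acal S A) (hB : Acal S B) :
    Acal S (A ⊞ B) :=
  Acal_of_forall (fun _ _ _ => LCat_biprod) hA hB

/-- `Acal` is invariant under isomorphism. -/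
theorem Acal_of_iso {A B : An.Cl.Ab (An.Pts S)} (e : A ≅ B) (hA : Acal S A) : Acal S B :=
  Acal_of_forall (fun _ _ _ h _ => LCat_of_iso e h) hA hA

end acal

section ext

variable {S : Scheme.{0}} [S.Over An.SC] [LocallyOfFiniteType (S ↘ An.SC)] [Fact An.EtaleLH]

/-- `ExtGerms` is invariant under isomorphism. -/
theorem ExtGerms_of_iso {A B : An.Cl.Ab (An.Pts S)} (e : A ≅ B) (hA : ExtGerms S A) :
    ExtGerms S B := by
  intro U C k c β
  obtain ⟨V, g, b, α', hb, D, f, f', d, h1, h2, h3⟩ :=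
    hA U C k c ((e.inv.hom.app (op C)).hom β)
  refine ⟨V, g, b, (e.hom.hom.app _).hom α', hb, D, f, f', d, h1, h2, ?_⟩
  have h4 := congrArg (e.hom.hom.app (op D)).hom h3
  rw [app_res, app_res] at h4
  rw [← h4]
  congr 1
  exact (congrArg (fun (k : B ⟶ B) => (k.hom.app (op C)).hom β) e.inv_hom_id).symm

/-- `ExtGerms` for a biproduct. -/
theorem ExtGerms_biprod {A B : An.Cl.Ab (An.Pts S)} (hA : ExtGerms S A) (hB : ExtGerms S B) :
    ExtGerms S (A ⊞ B) := by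
  intro U C k c γ
  obtain ⟨V₁, g₁, b₁, α, hb₁, D, f, f', d, h1, h2, h3⟩ :=
    hA U C k c (((biprod.fst : A ⊞ B ⟶ A).hom.app (op C)).hom γ)
  obtain ⟨V₂, g₂, b₂, β, hb₂, E, m, m', x, h4, h5, h6⟩ :=
    hB V₁ D f' d (res B f (((biprod.snd : A ⊞ B ⟶ B).hom.app (op C)).hom γ))
  refine ⟨V₂, g₂ ≫ g₁, b₂, ((biprod.inl : A ⟶ A ⊞ B).hom.app _).hom
    (res A ((An.eps S).map g₂) α) + ((biprod.inr : B ⟶ A ⊞ B).hom.app _).hom β, ?_, ?_⟩
  · rw [CategoryTheory.Functor.map_comp, An.Cl.comp_toFun, Function.comp_apply, hb₂, h2, hb₁]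
  obtain ⟨F, n, y, hy, he, -⟩ := exists_eq (m ≫ f') (m' ≫ (An.eps S).map g₂) x (by
    rw [An.Cl.comp_toFun, An.Cl.comp_toFun, Function.comp_apply, Function.comp_apply, h4, h5, hb₂])
  refine ⟨F, n ≫ m ≫ f, n ≫ m', y, ?_, ?_, ?_⟩
  · rw [An.Cl.comp_toFun, An.Cl.comp_toFun, Function.comp_apply, Function.comp_apply, hy, h4, h1]
  · rw [An.Cl.comp_toFun, Function.comp_apply, hy, h5]
  · have tot : ∀ (W : An.Cl (An.Pts S)) (a : An.Cl.sect (A ⊞ B) W),
        ((biprod.inl : A ⟶ A ⊞ B).hom.app _).hom (((biprod.fst : A ⊞ B ⟶ A).hom.app (op W)).hom a) +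
        ((biprod.inr : B ⟶ A ⊞ B).hom.app _).hom
          (((biprod.snd : A ⊞ B ⟶ B).hom.app (op W)).hom a) = a := fun W a =>
      congrArg (fun (k : A ⊞ B ⟶ A ⊞ B) => (k.hom.app (op W)).hom a) (biprod.total (X := A) (Y := B))
    have eA : res A (n ≫ m ≫ f) (((biprod.fst : A ⊞ B ⟶ A).hom.app (op C)).hom γ) =
        res A (n ≫ m') (res A ((An.eps S).map g₂) α) := by
      rw [← res_comp, Category.assoc, ← he, ← Category.assoc, res_comp, h3, ← res_comp,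
        Category.assoc]
    have eB : res B (n ≫ m ≫ f) (((biprod.snd : A ⊞ B ⟶ B).hom.app (op C)).hom γ) =
        res B (n ≫ m') β := by
      rw [res_comp B m' n, ← h6, ← res_comp, ← res_comp, Category.assoc]
    rw [← tot F (res (A ⊞ B) (n ≫ m ≫ f) γ), app_res biprod.fst, app_res biprod.snd, map_add, eA,
      eB, app_res biprod.inl (n ≫ m'), app_res biprod.inr (n ≫ m')]

variable [An.EpsCont S]

theorem Good.of_iso {A B : An.Cl.Ab (An.Pts S)} (e : A ≅ B) (hA : Good S A) : Good S B where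
  acal := Acal_of_iso e hA.acal
  acyc q hq := (hA.acyc q hq).of_iso ((An.epsRpush S q).mapIso e).symm
  ext := ExtGerms_of_iso e hA.ext

theorem Good.biprod {A B : An.Cl.Ab (An.Pts S)} (hA : Good S A) (hB : Good S B) :
    Good S (A ⊞ B) where
  acal := Acal_biprod hA.acal hB.acal
  acyc q hq := by
    have : (An.epsRpush S q).Additive :=
      Groth.Agent.Sga4h.LerayAcyc.rightDerived_additive (An.epsPush S) q
    rw [IsZero.iff_id_eq_zero, ← CategoryTheory.Functor.map_id, ← biprod.total, Functor.map_add,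
      CategoryTheory.Functor.map_comp, CategoryTheory.Functor.map_comp,
      (hA.acyc q hq).eq_zero_of_src ((An.epsRpush S q).map biprod.inl),
      (hB.acyc q hq).eq_zero_of_src ((An.epsRpush S q).map biprod.inr), comp_zero, comp_zero,
      add_zero]
  ext := ExtGerms_biprod hA.ext hB.ext

end ext

end Groth.Agent.An.H156.LCatCalc
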