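import Groth.Agent.An.H867.Asm1
import Groth.Agent.An.H866.T2Dim

/-!
# From `T(d)` for all `d` to all schemes locally of finite type over `ℂ`

* `LDat_of_diesFrom_self`: local killing on the étale site of `X` gives `LDat`;
* `exists_dim_le`: an affine scheme of finite type over `ℂ` has finite dimension;
* `isZero_const`: if `TProp d` for all `d`, then `R^q ε_* M = 0` (`q > 0`, `M` finite) on every `X`
  locally of finite type over `ℂ`.
-/

set_option autoImplicit false

open CategoryTheory CategoryTheory.Limits AlgebraicGeometry Opposite CategoryTheory.Abelian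
open TopologicalSpace Topology

noncomputable section

namespace Groth.Agent.An.H156.LocAsm

open Groth.Agent.Proet.ZU Groth.Agent.An.H888.ClsH Groth.Agent.An.H888.ClsLoc
open Groth.Agent.An.H888.Dies Groth.Agent.An.H888 Groth.Agent.An.H884.ClBC
open Groth.Agent.An.H887.LD Groth.Agent.An.H887.Step Groth.Agent.An.H885
open Groth.Agent.An.H889.TDefs Groth.Agent.An.H866 Groth.Agent.An.H867.Asm1

section

variable {X : Scheme.{0}} [X.Over An.SC] [LocallyOfFiniteType (X ↘ An.SC)] [Fact An.EtaleLH]

/-- Local killing of classes on the étale site gives `LDat` at every complex point. -/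
theorem LDat_of_diesFrom_self {G : An.Cl.Ab (An.Pts X)} {n q : ℕ} (hq : n ≤ q)
    (h : ClsLeray.DiesFrom.{1, 1} (An.eps X) X.smallEtaleTopology n G) (a : An.Pts X) :
    LDat G q a := by
  refine LDat_of_diesAt (EtCoh.top X) (topPt a) (p_topPt a) fun x => ?_
  obtain ⟨R, hR, h⟩ := h (EtCoh.top X) q hq x
  rw [Groth.Agent.EtpbcA.OverSite.mem_smallEtale_iff] at hR
  obtain ⟨V, g, v, hRg, hv⟩ := hR (topPt a).pt
  obtain ⟨b, hb, -⟩ := EpsGerm.exists_pts_lift X g (topPt a) v hv
  exact ⟨V, g, b, hb, h g hRg⟩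

end

/-- An affine scheme of finite type over `ℂ` has finite dimension. -/
theorem exists_dim_le (Y : Scheme.{0}) [Y.Over An.SC] [LocallyOfFiniteType (Y ↘ An.SC)]
    [IsAffine Y] : ∃ d : ℕ, topologicalKrullDim Y ≤ d := by
  have h1 : (Y ↘ An.SC).appTop.hom.FiniteType :=
    (HasRingHomProperty.iff_of_isAffine (P := @LocallyOfFiniteType)).1 inferInstance
  algebraize [(Y ↘ An.SC).appTop.hom]
  obtain ⟨n, f, hf⟩ := Algebra.FiniteType.iff_quotient_mvPolynomial''.1
    (inferInstance : Algebra.FiniteType Γ(An.SC, ⊤) Γ(Y, ⊤))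
  let e : Γ(An.SC, ⊤) ≃+* ℂ := (Scheme.ΓSpecIso (CommRingCat.of ℂ)).commRingCatIsoToRingEquiv
  have hN : IsNoetherianRing Γ(An.SC, ⊤) := isNoetherianRing_of_ringEquiv ℂ e.symm
  have h0 : ringKrullDim Γ(An.SC, ⊤) = 0 :=
    (ringKrullDim_eq_of_ringEquiv e).trans (ringKrullDim_eq_zero_of_field ℂ)
  refine ⟨n, ?_⟩
  rw [T2Dim.topologicalKrullDim_of_isAffine]
  refine (ringKrullDim_le_of_surjective f.toRingHom hf).trans ?_
  rw [MvPolynomial.ringKrullDim_of_isNoetherianRing, h0, Nat.card_fin, zero_add]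

/-- **From `T(d)` to all schemes locally of finite type over `ℂ`.** -/
theorem isZero_const (h : ∀ d, TProp d) (X : Scheme.{0}) [X.Over An.SC]
    [LocallyOfFiniteType (X ↘ An.SC)] [Fact An.EtaleLH] [An.EpsCont X] (M : Type)
    [AddCommGroup M] [Finite M] (q : ℕ) (hq : 0 < q) :
    IsZero ((An.epsRpush X q).obj (An.Cl.const (An.Pts X) M)) := by
  refine isZero_epsRpush X (An.Cl.const (An.Pts X) M) (fun U q x a => ?_) q hq
  have hlU : LocallyOfFiniteType (U.left ↘ An.SC) := lft_left U
  obtain ⟨W, hW, haW, -⟩ := exists_isAffineOpen_mem_and_subset (X := U.left) (x := a.pt)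
    (U := ⊤) trivial
  obtain ⟨b, hb⟩ := Groth.Agent.An.H886.Algebraic.exists_lift_pt U W a haW
  let V : X.Etale := Groth.Agent.An.H886.Algebraic.restr U W
  let k : V ⟶ U := Groth.Agent.An.H886.Algebraic.restrι U W
  have hlV : LocallyOfFiniteType (V.left ↘ An.SC) := lft_left V
  have hVa : IsAffine V.left := hW
  have hc : An.EpsCont V.left := Groth.Agent.An.H882.EpsCont.epsCont V.left
  obtain ⟨d, hd⟩ := exists_dim_le V.left
  have hL : LDat (X := V.left) (An.Cl.const (An.Pts V.left) M) (q + 1) b :=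
    LDat_of_diesFrom_self (n := 1) (by omega) (diesFrom_of_acyclic V.left _
      (fun q hq => h d V.left hd M q hq)) b
  have hL' : LDat (X := V.left)
      ((Groth.Agent.An.H888.ClsLoc.restr ((An.eps X).obj V)).obj (An.Cl.const (An.Pts X) M))
      (q + 1) b :=
    LDat_of_iso (X := V.left) (restrConst ((An.eps X).obj V) M).symm hL
  have hD := diesAt_of_res k x b (diesAt_of_LDat hL' (res ((An.eps X).map k) x))
  have hb' : An.Pts.map (X := V.left) (Y := U.left) k.left b = a := hb
  rw [hb'] at hD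
  exact hD

end Groth.Agent.An.H156.LocAsm
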