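import Groth.Agent.An.H809.AcalPush
import Groth.Agent.An.H867.Strat
import Groth.Agent.Sga4B.SmoothNormal
import Groth.Agent.VarietyA.SmoothLocusSch
import Groth.Agent.VarietyA.SmoothReg
import Mathlib.AlgebraicGeometry.FunctionField

/-!
# Stratification attached to a sheaf in `Acal`

`Stratum S G`: an integral closed subscheme `c : Z ⟶ S`, a nonempty affine smooth open `i : U ⟶ Z`
along which `G` is locally constant with finite stalks.
`exists_strata`: if `Acal S G` and `S` is Noetherian then finitely many strata cover `S`.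
-/

set_option autoImplicit false
open CategoryTheory CategoryTheory.Limits AlgebraicGeometry TopologicalSpace Topology Opposite

noncomputable section

namespace Groth.Agent.An.H156.Strata

open Groth.Agent.An.H866.T2Defs Groth.Agent.An.H889.OCoh

/-- A smaller subset. -/
theorem LCat.mono {T : Type} [TopologicalSpace T] {G : An.Cl.Ab T} {Z Z' : Set T} {z : T}
    (h : Z' ⊆ Z) (hG : LCat G Z z) : LCat G Z' z := by
  obtain ⟨V, hz, S, hS, hV⟩ := hG
  exact ⟨V, hz, S, hS, fun t ht htZ => hV t ht (h htZ)⟩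

/-- A stratum: `G` is locally constant with finite stalks along `U`. -/
structure Stratum (S : Scheme.{0}) [S.Over An.SC] (G : An.Cl.Ab (An.Pts S)) where
  /-- the closed subscheme -/
  Z : Scheme.{0}
  /-- its open part -/
  U : Scheme.{0}
  /-- the closed immersion -/
  c : Z ⟶ S
  /-- the open immersion -/
  i : U ⟶ Z
  isClosedImmersion_c : IsClosedImmersion c
  isOpenImmersion_i : IsOpenImmersion i
  isIntegral_Z : IsIntegral Z
  isIntegral_U : IsIntegral U
  isAffine_U : IsAffine U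
  smooth_U : Smooth (i ≫ c ≫ (S ↘ An.SC))
  lcat : ∀ t : An.Pts S, t.pt ∈ Set.range (i ≫ c) → LCat G {t | t.pt ∈ Set.range (i ≫ c)} t

attribute [instance] Stratum.isClosedImmersion_c Stratum.isOpenImmersion_i Stratum.isIntegral_Z
  Stratum.isIntegral_U Stratum.isAffine_U

namespace Stratum

variable {S : Scheme.{0}} [S.Over An.SC] {G : An.Cl.Ab (An.Pts S)} (x : Stratum S G)

instance : x.Z.Over An.SC := ⟨x.c ≫ (S ↘ An.SC)⟩

instance : x.U.Over An.SC := ⟨x.i ≫ x.c ≫ (S ↘ An.SC)⟩

instance : x.c.IsOver An.SC := ⟨rfl⟩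

instance : x.i.IsOver An.SC := ⟨rfl⟩

instance : (x.i ≫ x.c).IsOver An.SC := ⟨Category.assoc _ _ _⟩

instance [LocallyOfFiniteType (S ↘ An.SC)] : LocallyOfFiniteType (x.Z ↘ An.SC) := by
  change LocallyOfFiniteType (x.c ≫ (S ↘ An.SC))
  infer_instance

instance smooth : Smooth (x.U ↘ An.SC) := x.smooth_U

/-- the open part of a stratum is normal -/
theorem isNormalScheme : Pi1.IsNormalScheme x.U :=
  Groth.Agent.Sga4B.SmoothNormal.isNormalScheme_of_smooth (k := ℂ) (x.U ↘ An.SC)

/-- the complex points of the open part are connected -/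
theorem connectedSpace_pts : ConnectedSpace (An.Pts x.U) := by
  have h : LocallyOfFiniteType (x.U ↘ An.SC) := inferInstance
  have hc : ConnectedSpace x.U := inferInstance
  exact (Groth.Agent.An.H868.Clopen.connectedSpace_iff Groth.Agent.An.H869.Conn.conn x.U).1 hc

theorem range_map [LocallyOfFiniteType (S ↘ An.SC)] :
    Set.range (An.Pts.map (x.i ≫ x.c)) = {t | t.pt ∈ Set.range (x.i ≫ x.c)} :=
  Groth.Agent.An.H871.Imm.range_map_of_isImmersion (x.i ≫ x.c)

theorem lcat' [LocallyOfFiniteType (S ↘ An.SC)] (y : An.Pts x.U) :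
    LCat G (Set.range (An.Pts.map (x.i ≫ x.c))) (An.Pts.map (x.i ≫ x.c) y) := by
  rw [range_map]
  refine x.lcat _ ?_
  have h : An.Pts.map (x.i ≫ x.c) y ∈ Set.range (An.Pts.map (x.i ≫ x.c)) := ⟨y, rfl⟩
  rw [range_map] at h
  exact h

end Stratum

variable {S : Scheme.{0}} [S.Over An.SC] [LocallyOfFiniteType (S ↘ An.SC)]
  {G : An.Cl.Ab (An.Pts S)}

/-- An integral scheme locally of finite type over `ℂ` has a nonempty smooth affine open inside
every nonempty open. -/
theorem exists_smooth_affine {Y : Scheme.{0}} [IsIntegral Y] (f : Y ⟶ An.SC)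
    [LocallyOfFiniteType f] (W : Y.Opens) (hW : (W : Set Y).Nonempty) :
    ∃ V : Y.Opens, IsAffineOpen V ∧ (V : Set Y).Nonempty ∧ V ≤ W ∧ Smooth (V.ι ≫ f) := by
  have hnoe : IsLocallyNoetherian An.SC := inferInstanceAs (IsLocallyNoetherian (Spec (.of ℂ)))
  have hfp : LocallyOfFinitePresentation f := inferInstance
  let η := genericPoint Y
  have hη : η ∈ f.smoothLocus := by
    refine (Groth.Agent.VarietyA.SmoothReg.mem_smoothLocus_iff_of_perfectField (k := ℂ) f η).2 ?_
    exact inferInstanceAs (IsRegularLocalRing Y.functionField)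
  have hηW : η ∈ W := ((genericPoint_spec Y).mem_open_set_iff W.2).2 (by simpa using hW)
  obtain ⟨_, ⟨V, hV, rfl⟩, hηV, hVW⟩ := Y.isBasis_affineOpens.exists_subset_of_mem_open
    (show η ∈ ((W ⊓ f.smoothLocus : Y.Opens) : Set Y) from ⟨hηW, hη⟩) (W ⊓ f.smoothLocus).2
  refine ⟨V, hV, ⟨η, hηV⟩, fun y hy => (hVW hy).1, ?_⟩
  have h1 := Groth.Agent.VarietyA.SmoothLocusSch.smooth_smoothLocus_ι f
  have hle : (V : Y.Opens) ≤ f.smoothLocus := fun y hy => (hVW hy).2
  have h2 : Scheme.Opens.ι V ≫ f = Y.homOfLE hle ≫ f.smoothLocus.ι ≫ f := by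
    rw [← Category.assoc, Scheme.homOfLE_ι]
  rw [h2]
  infer_instance

/-- The stratum of an irreducible closed subset. -/
theorem exists_stratum (hG : Acal S G) (Z : Set S) (hZ : IsClosed Z) (hirr : IsIrreducible Z) :
    ∃ x : Stratum S G, Set.range (x.i ≫ x.c) ⊆ Z ∧ ∃ O : Set S, IsOpen O ∧ (Z ∩ O).Nonempty ∧
      Z ∩ O ⊆ Set.range (x.i ≫ x.c) := by
  obtain ⟨W, hW, hl⟩ := hG Z hZ hirr
  obtain ⟨Y, c, hc, hY, rfl⟩ := Groth.Agent.An.H809.AcalPush.exists_integral Z hZ hirr
  obtain ⟨V, hV, hne, hVW, hsm⟩ := exists_smooth_affine (c ≫ (S ↘ An.SC)) (c ⁻¹ᵁ W) (by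
    obtain ⟨_, ⟨y, rfl⟩, hy⟩ := hW
    exact ⟨y, hy⟩)
  have hr : Set.range (V.ι ≫ c) = c '' V := by
    ext t
    constructor
    · rintro ⟨v, rfl⟩
      exact ⟨v.1, v.2, rfl⟩
    · rintro ⟨y, hy, rfl⟩
      exact ⟨⟨y, hy⟩, rfl⟩
  have hsub : Set.range (V.ι ≫ c) ⊆ Set.range c := by
    rw [hr]
    exact Set.image_subset_range _ _
  have hVne : Nonempty V := hne.to_subtype
  refine ⟨{ Z := Y, U := V, c := c, i := V.ι, isClosedImmersion_c := hc
            isOpenImmersion_i := inferInstance, isIntegral_Z := hY, isIntegral_U := inferInstance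
            isAffine_U := hV, smooth_U := hsm, lcat := fun t ht => ?_ }, hsub, ?_⟩
  · refine LCat.mono (fun t' ht' => hsub ht') (hl t ?_ (hsub ht))
    rw [hr] at ht
    obtain ⟨y, hy, hyt⟩ := ht
    rw [← hyt]
    exact hVW hy
  · obtain ⟨O, hO, hO'⟩ := c.isClosedEmbedding.isInducing.isOpen_iff.1 V.2
    refine ⟨O, hO, ?_, ?_⟩
    · obtain ⟨y, hy⟩ := hne
      refine ⟨c y, ⟨y, rfl⟩, ?_⟩
      have : y ∈ c ⁻¹' O := by rw [hO']; exact hy
      exact this
    · rintro _ ⟨⟨y, rfl⟩, hy⟩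
      rw [hr]
      have : y ∈ c ⁻¹' O := hy
      rw [hO'] at this
      exact ⟨y, this, rfl⟩

/-- **Stratification.** -/
theorem exists_strata [NoetherianSpace S] (hG : Acal S G) :
    ∃ (n : ℕ) (x : Fin n → Stratum S G), ∀ s : S, ∃ j, s ∈ Set.range ((x j).i ≫ (x j).c) := by
  have key : ∀ W : Closeds S, ∃ l : List (Stratum S G), ∀ s ∈ W, ∃ x ∈ l,
      s ∈ Set.range (x.i ≫ x.c) := by
    intro W
    induction W using WellFoundedLT.induction with
    | ind W ih =>
      by_cases hirr : IsIrreducible (W : Set S)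
      · obtain ⟨x, -, O, hO, hne, hsub⟩ := exists_stratum hG W W.2 hirr
        let W' : Closeds S := ⟨W ∩ Oᶜ, W.2.inter hO.isClosed_compl⟩
        have hlt : W' < W := by
          refine lt_of_le_of_ne (fun y hy => hy.1) fun e => ?_
          obtain ⟨y, hy, hyU⟩ := hne
          have : y ∈ W' := by rw [e]; exact hy
          exact this.2 hyU
        obtain ⟨l, hl⟩ := ih W' hlt
        refine ⟨x :: l, fun s hs => ?_⟩
        by_cases hsO : s ∈ O
        · exact ⟨x, List.mem_cons_self, hsub ⟨hs, hsO⟩⟩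
        · obtain ⟨x', hx', h⟩ := hl s ⟨hs, hsO⟩
          exact ⟨x', List.mem_cons_of_mem _ hx', h⟩
      · by_cases hne : (W : Set S).Nonempty
        · have hirr' : ¬ IsPreirreducible (W : Set S) := fun hh => hirr ⟨hne, hh⟩
          rw [isPreirreducible_iff_isClosed_union_isClosed] at hirr'
          push Not at hirr'
          obtain ⟨z₁, z₂, hz₁, hz₂, hz, h1, h2⟩ := hirr'
          let W₁ : Closeds S := ⟨W ∩ z₁, W.2.inter hz₁⟩
          let W₂ : Closeds S := ⟨W ∩ z₂, W.2.inter hz₂⟩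
          have hlt₁ : W₁ < W := by
            refine lt_of_le_of_ne (fun y hy => hy.1) fun e => h1 fun y hy => ?_
            have : y ∈ W₁ := by rw [e]; exact hy
            exact this.2
          have hlt₂ : W₂ < W := by
            refine lt_of_le_of_ne (fun y hy => hy.1) fun e => h2 fun y hy => ?_
            have : y ∈ W₂ := by rw [e]; exact hy
            exact this.2
          obtain ⟨l₁, hl₁⟩ := ih W₁ hlt₁
          obtain ⟨l₂, hl₂⟩ := ih W₂ hlt₂
          refine ⟨l₁ ++ l₂, fun s hs => ?_⟩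
          rcases hz hs with h | h
          · obtain ⟨x, hx, h'⟩ := hl₁ s ⟨hs, h⟩
            exact ⟨x, List.mem_append_left _ hx, h'⟩
          · obtain ⟨x, hx, h'⟩ := hl₂ s ⟨hs, h⟩
            exact ⟨x, List.mem_append_right _ hx, h'⟩
        · exact ⟨[], fun s hs => (hne ⟨s, hs⟩).elim⟩
  obtain ⟨l, hl⟩ := key ⊤
  refine ⟨l.length, l.get, fun s => ?_⟩
  obtain ⟨x, hx, h⟩ := hl s trivial
  obtain ⟨j, rfl⟩ := List.get_of_mem hx
  exact ⟨j, h⟩

end Groth.Agent.An.H156.Strata
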